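import Cfsg.Agent.Co23.Kit

/-! A permutation model of the automorphism group of `A₆`. -/

set_option autoImplicit false
set_option maxRecDepth 100000
set_option linter.unusedSimpArgs false
set_option linter.unusedSectionVars false
set_option linter.unusedVariables false
set_option maxHeartbeats 1000000

namespace Cfsg.Lib.QET.KA6

open Subgroup Cfsg.Lib.Spor Cfsg.Lib.Spor.Bulk Cfsg.Lib.Spor.PK Cfsg.Lib.Spor.WF

variable {G : Type*} [Group G] {p q l e1 e2 x1 x2 a w s t : G}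

/-- letters -/
def gMA6 (p q l e1 e2 x1 x2 a w s t : G) : ℕ → G := lf [1, p, q, l, e1, e2, x1, x2, a, w, s, t]

theorem gMA6_0 : gMA6 p q l e1 e2 x1 x2 a w s t 0 = 1 := rfl
theorem gMA6_1 : gMA6 p q l e1 e2 x1 x2 a w s t 1 = p := rfl
theorem gMA6_2 : gMA6 p q l e1 e2 x1 x2 a w s t 2 = q := rfl
theorem gMA6_3 : gMA6 p q l e1 e2 x1 x2 a w s t 3 = l := rfl
theorem gMA6_4 : gMA6 p q l e1 e2 x1 x2 a w s t 4 = e1 := rfl
theorem gMA6_5 : gMA6 p q l e1 e2 x1 x2 a w s t 5 = e2 := rfl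
theorem gMA6_6 : gMA6 p q l e1 e2 x1 x2 a w s t 6 = x1 := rfl
theorem gMA6_7 : gMA6 p q l e1 e2 x1 x2 a w s t 7 = x2 := rfl
theorem gMA6_8 : gMA6 p q l e1 e2 x1 x2 a w s t 8 = a := rfl
theorem gMA6_9 : gMA6 p q l e1 e2 x1 x2 a w s t 9 = w := rfl
theorem gMA6_10 : gMA6 p q l e1 e2 x1 x2 a w s t 10 = s := rfl
theorem gMA6_11 : gMA6 p q l e1 e2 x1 x2 a w s t 11 = t := rfl

@[reducible] def MA6 : PM where
  w := 8
  n := 10
  cs := [341195027167515180533760,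
    76299208086447586805760,
    340897559926119652665360,
    114374424987136759959600,
    227858238325281000001560,
    113632533500959406438400,
    226822324877847166986240,
    189046275248247749480520,
    341048029666916073738240,
    76443325491207201101880,
    302825211748231729920000,
    76005206329850331678720]
  SW := [([[1],[2],[3],[4],[5],[6],[7],[8],[9],[10],[11]],
    [⟨2, [576, 1, 66, 516, 453, 329, 194, 387, 265], [[8, 0], [1, 7, 3, 9]]⟩,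
     ⟨0, [384, 257, 320, 65, 512, 192, 448, 577], [[1, 0, 0, 0], [0, 0, 1, 1, 1]]⟩,
     ⟨1, [192, 576, 385, 320, 448, 513, 257], [[1]]⟩,
     ⟨3, [384], []⟩]),
   ([[1],[2]],
    [⟨2, [576, 1, 385, 448, 513, 321, 65, 193, 256], [[0, 1, 0], [1, 1, 0, 1, 1, 0, 1, 1, 1, 0, 1]]⟩,
     ⟨0, [448, 320, 385, 576, 193, 512, 65, 257], [[0, 0, 0, 1, 1, 0, 0]]⟩,
     ⟨1, [256, 576, 448], []⟩]),
   ([[4],[5]],
    [⟨0, [192, 577, 384], [[1]]⟩,
     ⟨1, [448], []⟩]),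
   ([[4],[5],[8],[9]],
    [⟨0, [192, 451, 577, 67, 514, 384, 131], [[1], [0, 1, 3, 2, 3, 0]]⟩,
     ⟨1, [448, 513, 129], []⟩]),
   ([[3],[8]],
    [⟨0, [384], [[1]]⟩,
     ⟨1, [128], []⟩]),
   ([[10],[11]],
    [⟨1, [384, 129, 448, 321, 577, 193, 257, 513], []⟩])]

instance : NeZero MA6.n := ⟨by decide⟩

theorem MA6_ok : MA6.ok = true := by decide +kernel

theorem MA6_subs : MA6.subsOK = true := by decide +kernel

theorem gMA6_s0 : sub (gMA6 p q l e1 e2 x1 x2 a w s t) (MA6.W 0) = gen [p, q, l, e1, e2, x1, x2, a, w, s, t] := by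
  change gen (List.map (wv _) [[1],[2],[3],[4],[5],[6],[7],[8],[9],[10],[11]]) = _
  simp only [List.map_cons, List.map_nil, wv_cons, wv_nil, one_mul, gMA6_1, gMA6_2, gMA6_3, gMA6_4, gMA6_5, gMA6_6, gMA6_7, gMA6_8, gMA6_9, gMA6_10, gMA6_11]

theorem gMA6_s1 : sub (gMA6 p q l e1 e2 x1 x2 a w s t) (MA6.W 1) = gen [p, q] := by
  change gen (List.map (wv _) [[1],[2]]) = _
  simp only [List.map_cons, List.map_nil, wv_cons, wv_nil, one_mul, gMA6_1, gMA6_2, gMA6_3, gMA6_4, gMA6_5, gMA6_6, gMA6_7, gMA6_8, gMA6_9, gMA6_10, gMA6_11]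

theorem gMA6_s2 : sub (gMA6 p q l e1 e2 x1 x2 a w s t) (MA6.W 2) = gen [e1, e2] := by
  change gen (List.map (wv _) [[4],[5]]) = _
  simp only [List.map_cons, List.map_nil, wv_cons, wv_nil, one_mul, gMA6_1, gMA6_2, gMA6_3, gMA6_4, gMA6_5, gMA6_6, gMA6_7, gMA6_8, gMA6_9, gMA6_10, gMA6_11]

theorem gMA6_s3 : sub (gMA6 p q l e1 e2 x1 x2 a w s t) (MA6.W 3) = gen [e1, e2, a, w] := by
  change gen (List.map (wv _) [[4],[5],[8],[9]]) = _
  simp only [List.map_cons, List.map_nil, wv_cons, wv_nil, one_mul, gMA6_1, gMA6_2, gMA6_3, gMA6_4, gMA6_5, gMA6_6, gMA6_7, gMA6_8, gMA6_9, gMA6_10, gMA6_11]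

theorem gMA6_s4 : sub (gMA6 p q l e1 e2 x1 x2 a w s t) (MA6.W 4) = gen [l, a] := by
  change gen (List.map (wv _) [[3],[8]]) = _
  simp only [List.map_cons, List.map_nil, wv_cons, wv_nil, one_mul, gMA6_1, gMA6_2, gMA6_3, gMA6_4, gMA6_5, gMA6_6, gMA6_7, gMA6_8, gMA6_9, gMA6_10, gMA6_11]

theorem gMA6_s5 : sub (gMA6 p q l e1 e2 x1 x2 a w s t) (MA6.W 5) = gen [s, t] := by
  change gen (List.map (wv _) [[10],[11]]) = _
  simp only [List.map_cons, List.map_nil, wv_cons, wv_nil, one_mul, gMA6_1, gMA6_2, gMA6_3, gMA6_4, gMA6_5, gMA6_6, gMA6_7, gMA6_8, gMA6_9, gMA6_10, gMA6_11]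

theorem MA6_crd_G (he : Emb MA6.m (gMA6 p q l e1 e2 x1 x2 a w s t)) : Nat.card (gen [p, q, l, e1, e2, x1, x2, a, w, s, t] : Subgroup G) = 1440 :=
  gMA6_s0 (G := G) ▸ (PM.card_of_emb MA6_ok MA6_subs he 0).trans (by decide +kernel)

theorem MA6_crd_Y (he : Emb MA6.m (gMA6 p q l e1 e2 x1 x2 a w s t)) : Nat.card (gen [p, q] : Subgroup G) = 360 :=
  gMA6_s1 (G := G) ▸ (PM.card_of_emb MA6_ok MA6_subs he 1).trans (by decide +kernel)

theorem MA6_crd_U (he : Emb MA6.m (gMA6 p q l e1 e2 x1 x2 a w s t)) : Nat.card (gen [e1, e2] : Subgroup G) = 8 :=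
  gMA6_s2 (G := G) ▸ (PM.card_of_emb MA6_ok MA6_subs he 2).trans (by decide +kernel)

theorem MA6_crd_T (he : Emb MA6.m (gMA6 p q l e1 e2 x1 x2 a w s t)) : Nat.card (gen [e1, e2, a, w] : Subgroup G) = 32 :=
  gMA6_s3 (G := G) ▸ (PM.card_of_emb MA6_ok MA6_subs he 3).trans (by decide +kernel)

theorem MA6_crd_Z (he : Emb MA6.m (gMA6 p q l e1 e2 x1 x2 a w s t)) : Nat.card (gen [l, a] : Subgroup G) = 4 :=
  gMA6_s4 (G := G) ▸ (PM.card_of_emb MA6_ok MA6_subs he 4).trans (by decide +kernel)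

theorem MA6_crd_S (he : Emb MA6.m (gMA6 p q l e1 e2 x1 x2 a w s t)) : Nat.card (gen [s, t] : Subgroup G) = 9 :=
  gMA6_s5 (G := G) ▸ (PM.card_of_emb MA6_ok MA6_subs he 5).trans (by decide +kernel)

theorem f_pq (he : Emb MA6.m (gMA6 p q l e1 e2 x1 x2 a w s t)) :
    p * p = 1 ∧ q * q * q * q = 1 ∧ p * q * p * q * p * q * p * q * p * q = 1 ∧ p * q * q * p * q * q *
    p * q * q * p * q * q * p * q * q = 1 := by
  have := PM.holds MA6_ok MA6_subs he (p := (.and (.eq [1,1] []) (.and (.eq [2,2,2,2] []) (.and (.eq [2,1,2,1,2,1,2,1,2,1] []) (.eq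
      [2,2,1,2,2,1,2,2,1,2,2,1,2,2,1] []))))) (by decide +kernel)
  simp only [Fm.sem, wv_cons, wv_nil, one_mul, upd_apply, Nat.reduceEqDiff, ↓reduceIte, gMA6_1, gMA6_2, gMA6_3, gMA6_4, gMA6_5, gMA6_6, gMA6_7, gMA6_8, gMA6_9, gMA6_10, gMA6_11, gMA6_s0, gMA6_s1, gMA6_s2, gMA6_s3, gMA6_s4, gMA6_s5, exists_eq_right'] at this
  exact this

theorem f_n (he : Emb MA6.m (gMA6 p q l e1 e2 x1 x2 a w s t)) :
    a * p * a ∈ gen [p, q] ∧ a * q * a ∈ gen [p, q] ∧ w * p * w ∈ gen [p, q] ∧ w * q * w ∈ gen [p, q] ∧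
    l ∈ gen [p, q] ∧ e1 ∈ gen [p, q] ∧ e2 ∈ gen [p, q] ∧ x1 ∈ gen [p, q] ∧ x2 ∈ gen [p, q] ∧ s ∈ gen
    [p, q] ∧ t ∈ gen [p, q] ∧ a * a = 1 ∧ w * w = 1 := by
  have := PM.holds MA6_ok MA6_subs he (p := (.and (.ex 1 40 (.eq [8,1,8] [40])) (.and (.ex 1 40 (.eq [8,2,8] [40])) (.and (.ex 1 40 (.eq [9,1,9]
      [40])) (.and (.ex 1 40 (.eq [9,2,9] [40])) (.and (.ex 1 40 (.eq [3] [40])) (.and (.ex 1 40
      (.eq [4] [40])) (.and (.ex 1 40 (.eq [5] [40])) (.and (.ex 1 40 (.eq [6] [40])) (.and (.ex 1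
      40 (.eq [7] [40])) (.and (.ex 1 40 (.eq [10] [40])) (.and (.ex 1 40 (.eq [11] [40])) (.and
      (.eq [8,8] []) (.eq [9,9] [])))))))))))))) (by decide +kernel)
  simp only [Fm.sem, wv_cons, wv_nil, one_mul, upd_apply, Nat.reduceEqDiff, ↓reduceIte, gMA6_1, gMA6_2, gMA6_3, gMA6_4, gMA6_5, gMA6_6, gMA6_7, gMA6_8, gMA6_9, gMA6_10, gMA6_11, gMA6_s0, gMA6_s1, gMA6_s2, gMA6_s3, gMA6_s4, gMA6_s5, exists_eq_right'] at this
  exact this

theorem f_cs (he : Emb MA6.m (gMA6 p q l e1 e2 x1 x2 a w s t)) :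
    ∀ g ∈ gen [p, q, l, e1, e2, x1, x2, a, w, s, t], g * p = p * g → g * q = q * g → g = 1 := by
  have := PM.holds MA6_ok MA6_subs he (p := (.all 0 40 (.imp (.eq [1,40] [40,1]) (.imp (.eq [2,40] [40,2]) (.eq [40] []))))) (by decide +kernel)
  simp only [Fm.sem, wv_cons, wv_nil, one_mul, upd_apply, Nat.reduceEqDiff, ↓reduceIte, gMA6_1, gMA6_2, gMA6_3, gMA6_4, gMA6_5, gMA6_6, gMA6_7, gMA6_8, gMA6_9, gMA6_10, gMA6_11, gMA6_s0, gMA6_s1, gMA6_s2, gMA6_s3, gMA6_s4, gMA6_s5, exists_eq_right'] at this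
  exact this

theorem f_inv (he : Emb MA6.m (gMA6 p q l e1 e2 x1 x2 a w s t)) :
    ∀ g ∈ gen [p, q, l, e1, e2, x1, x2, a, w, s, t], g * g = 1 → (g = 1 ∨ (∃ k ∈ gen [p, q, l, e1, e2,
    x1, x2, a, w, s, t], k * g = l * k ∨ k * g = a * k ∨ k * g = w * k)) := by
  have := PM.holds MA6_ok MA6_subs he (p := (.all 0 40 (.imp (.eq [40,40] []) (.or (.eq [40] []) (.ex 0 41 (.or (.eq [40,41] [41,3]) (.or (.eq
      [40,41] [41,8]) (.eq [40,41] [41,9])))))))) (by decide +kernel)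
  simp only [Fm.sem, wv_cons, wv_nil, one_mul, upd_apply, Nat.reduceEqDiff, ↓reduceIte, gMA6_1, gMA6_2, gMA6_3, gMA6_4, gMA6_5, gMA6_6, gMA6_7, gMA6_8, gMA6_9, gMA6_10, gMA6_11, gMA6_s0, gMA6_s1, gMA6_s2, gMA6_s3, gMA6_s4, gMA6_s5, exists_eq_right'] at this
  exact this

theorem f_cl (he : Emb MA6.m (gMA6 p q l e1 e2 x1 x2 a w s t)) :
    Nat.card ↥(gen [p, q] ⊓ centralizer {l}) = 8 := by
  have := PM.cent_of_emb MA6_ok he (W := MA6.W 1) (cert := [⟨0, [385, 448, 513, 321, 129, 65, 576, 193, 256], [[0], [1, 0, 1, 0, 1, 1]]⟩,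
     ⟨6, [448, 577, 128, 513, 65, 320, 257, 192], [[1, 0]]⟩,
     ⟨1, [512, 448, 128], []⟩])
    (es := [1]) (x := [3]) (N := 360) (c := 8) (ncs := [])
    ((PM.card_sub MA6_ok MA6_subs 1).trans (by decide +kernel)) (by decide +kernel)
  simpa only [wv_cons, wv_nil, one_mul, List.forall_mem_cons, List.not_mem_nil, IsEmpty.forall_iff, implies_true, and_true, gMA6_1, gMA6_2, gMA6_3, gMA6_4, gMA6_5, gMA6_6, gMA6_7, gMA6_8, gMA6_9, gMA6_10, gMA6_11, gMA6_s0, gMA6_s1, gMA6_s2, gMA6_s3, gMA6_s4, gMA6_s5, exists_eq_right'] using this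

theorem f_ca (he : Emb MA6.m (gMA6 p q l e1 e2 x1 x2 a w s t)) :
    Nat.card ↥(gen [p, q] ⊓ centralizer {a}) = 24 := by
  have := PM.cent_of_emb MA6_ok he (W := MA6.W 1) (cert := [⟨1, [193, 256, 449, 384, 321, 513, 129, 576, 1], [[1, 0, 1, 0, 1, 1, 1], [0]]⟩,
     ⟨2, [192, 577, 448, 257, 385, 0, 320, 513], [[1, 0]]⟩,
     ⟨4, [448, 320, 512], []⟩])
    (es := [1]) (x := [8]) (N := 360) (c := 24) (ncs := [])
    ((PM.card_sub MA6_ok MA6_subs 1).trans (by decide +kernel)) (by decide +kernel)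
  simpa only [wv_cons, wv_nil, one_mul, List.forall_mem_cons, List.not_mem_nil, IsEmpty.forall_iff, implies_true, and_true, gMA6_1, gMA6_2, gMA6_3, gMA6_4, gMA6_5, gMA6_6, gMA6_7, gMA6_8, gMA6_9, gMA6_10, gMA6_11, gMA6_s0, gMA6_s1, gMA6_s2, gMA6_s3, gMA6_s4, gMA6_s5, exists_eq_right'] using this

theorem f_cw (he : Emb MA6.m (gMA6 p q l e1 e2 x1 x2 a w s t)) :
    Nat.card ↥(gen [p, q] ⊓ centralizer {w}) = 10 := by
  have := PM.cent_of_emb MA6_ok he (W := MA6.W 1) (cert := [⟨0, [385, 448, 513, 321, 129, 65, 576, 193, 256], [[1, 0, 1, 0, 1, 1], [1, 0, 1, 1, 1, 0, 1, 0, 1, 1, 0, 1,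
    1]]⟩,
     ⟨7, [576, 513, 129, 384, 193, 64, 257, 320], [[0, 1, 1, 0, 1, 0]]⟩,
     ⟨1, [320, 384, 576], []⟩])
    (es := [1]) (x := [9]) (N := 360) (c := 10) (ncs := [])
    ((PM.card_sub MA6_ok MA6_subs 1).trans (by decide +kernel)) (by decide +kernel)
  simpa only [wv_cons, wv_nil, one_mul, List.forall_mem_cons, List.not_mem_nil, IsEmpty.forall_iff, implies_true, and_true, gMA6_1, gMA6_2, gMA6_3, gMA6_4, gMA6_5, gMA6_6, gMA6_7, gMA6_8, gMA6_9, gMA6_10, gMA6_11, gMA6_s0, gMA6_s1, gMA6_s2, gMA6_s3, gMA6_s4, gMA6_s5, exists_eq_right'] using this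

theorem f_r (he : Emb MA6.m (gMA6 p q l e1 e2 x1 x2 a w s t)) :
    ¬ e1 * e2 * e1 * e2 = 1 ∧ ¬ e1 * w * e1 * w * e1 * w * e1 * w = 1 ∧ e1 * w * e1 * w * e1 * w * e1 *
    w * e1 * w * e1 * w * e1 * w * e1 * w = 1 ∧ s * t = t * s ∧ s * s * s = 1 ∧ t * t * t = 1 := by
  have := PM.holds MA6_ok MA6_subs he (p := (.and (.not (.eq [5,4,5,4] [])) (.and (.not (.eq [9,4,9,4,9,4,9,4] [])) (.and (.eq
      [9,4,9,4,9,4,9,4,9,4,9,4,9,4,9,4] []) (.and (.eq [11,10] [10,11]) (.and (.eq [10,10,10] [])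
      (.eq [11,11,11] []))))))) (by decide +kernel)
  simp only [Fm.sem, wv_cons, wv_nil, one_mul, upd_apply, Nat.reduceEqDiff, ↓reduceIte, gMA6_1, gMA6_2, gMA6_3, gMA6_4, gMA6_5, gMA6_6, gMA6_7, gMA6_8, gMA6_9, gMA6_10, gMA6_11, gMA6_s0, gMA6_s1, gMA6_s2, gMA6_s3, gMA6_s4, gMA6_s5, exists_eq_right'] at this
  exact this

theorem f_b16 (he : Emb MA6.m (gMA6 p q l e1 e2 x1 x2 a w s t)) :
    ∀ g ∈ gen [e1, e2, a, w], g * g = 1 → g * e1 * w * g * w * e1 * g * e1 * w * g * w * e1 = 1 → g ∈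
    gen [l, a] := by
  have := PM.holds MA6_ok MA6_subs he (p := (.all 3 40 (.imp (.eq [40,40] []) (.imp (.eq [4,9,40,9,4,40,4,9,40,9,4,40] []) (.ex 4 41 (.eq [40]
      [41])))))) (by decide +kernel)
  simp only [Fm.sem, wv_cons, wv_nil, one_mul, upd_apply, Nat.reduceEqDiff, ↓reduceIte, gMA6_1, gMA6_2, gMA6_3, gMA6_4, gMA6_5, gMA6_6, gMA6_7, gMA6_8, gMA6_9, gMA6_10, gMA6_11, gMA6_s0, gMA6_s1, gMA6_s2, gMA6_s3, gMA6_s4, gMA6_s5, exists_eq_right'] at this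
  exact this

theorem f_d (he : Emb MA6.m (gMA6 p q l e1 e2 x1 x2 a w s t)) :
    l ∈ gen [e1, e2] ∧ l * l = 1 ∧ ¬ l = 1 ∧ e1 * e1 = 1 ∧ e2 * e2 = 1 ∧ e1 * e2 * e1 * e2 = l ∧ x1 * l
    = e1 * x1 ∧ x1 * e1 = e1 * l * x1 ∧ x2 * l = e2 * x2 ∧ x2 * e2 = e2 * l * x2 ∧ x1 * a = a * x1 ∧
    x2 * a * l = a * l * x2 ∧ w * e1 * w = e2 ∧ w * e2 * w = e1 ∧ w * a * l * w = a := by
  have := PM.holds MA6_ok MA6_subs he (p := (.and (.ex 2 40 (.eq [3] [40])) (.and (.eq [3,3] []) (.and (.not (.eq [3] [])) (.and (.eq [4,4] [])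
      (.and (.eq [5,5] []) (.and (.eq [5,4,5,4] [3]) (.and (.eq [3,6] [6,4]) (.and (.eq [4,6]
      [6,3,4]) (.and (.eq [3,7] [7,5]) (.and (.eq [5,7] [7,3,5]) (.and (.eq [8,6] [6,8]) (.and (.eq
      [3,8,7] [7,3,8]) (.and (.eq [9,4,9] [5]) (.and (.eq [9,5,9] [4]) (.eq [9,3,8,9]
      [8])))))))))))))))) (by decide +kernel)
  simp only [Fm.sem, wv_cons, wv_nil, one_mul, upd_apply, Nat.reduceEqDiff, ↓reduceIte, gMA6_1, gMA6_2, gMA6_3, gMA6_4, gMA6_5, gMA6_6, gMA6_7, gMA6_8, gMA6_9, gMA6_10, gMA6_11, gMA6_s0, gMA6_s1, gMA6_s2, gMA6_s3, gMA6_s4, gMA6_s5, exists_eq_right'] at this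
  exact this

theorem f_el (he : Emb MA6.m (gMA6 p q l e1 e2 x1 x2 a w s t)) :
    ∀ g ∈ gen [e1, e2], g * l = l * g ∧ (g = 1 ∨ g = l ∨ g = e1 ∨ g = e1 * l ∨ g = e2 ∨ g = e2 * l ∨ g =
    e1 * e2 ∨ g = e1 * e2 * l) := by
  have := PM.holds MA6_ok MA6_subs he (p := (.all 2 40 (.and (.eq [3,40] [40,3]) (.or (.eq [40] []) (.or (.eq [40] [3]) (.or (.eq [40] [4]) (.or
      (.eq [40] [3,4]) (.or (.eq [40] [5]) (.or (.eq [40] [3,5]) (.or (.eq [40] [5,4]) (.eq [40]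
      [3,5,4]))))))))))) (by decide +kernel)
  simp only [Fm.sem, wv_cons, wv_nil, one_mul, upd_apply, Nat.reduceEqDiff, ↓reduceIte, gMA6_1, gMA6_2, gMA6_3, gMA6_4, gMA6_5, gMA6_6, gMA6_7, gMA6_8, gMA6_9, gMA6_10, gMA6_11, gMA6_s0, gMA6_s1, gMA6_s2, gMA6_s3, gMA6_s4, gMA6_s5, exists_eq_right'] at this
  exact this

theorem f_nu (he : Emb MA6.m (gMA6 p q l e1 e2 x1 x2 a w s t)) :
    ∀ g ∈ gen [p, q], (∃ u ∈ gen [e1, e2], g * e1 = u * g) → (∃ u ∈ gen [e1, e2], g * e2 = u * g) → g ∈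
    gen [e1, e2] := by
  have := PM.holds MA6_ok MA6_subs he (p := (.all 1 40 (.imp (.ex 2 41 (.eq [4,40] [40,41])) (.imp (.ex 2 41 (.eq [5,40] [40,41])) (.ex 2 41
      (.eq [40] [41])))))) (by decide +kernel)
  simp only [Fm.sem, wv_cons, wv_nil, one_mul, upd_apply, Nat.reduceEqDiff, ↓reduceIte, gMA6_1, gMA6_2, gMA6_3, gMA6_4, gMA6_5, gMA6_6, gMA6_7, gMA6_8, gMA6_9, gMA6_10, gMA6_11, gMA6_s0, gMA6_s1, gMA6_s2, gMA6_s3, gMA6_s4, gMA6_s5, exists_eq_right'] at this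
  exact this

theorem f_s6 (he : Emb MA6.m (gMA6 p q l e1 e2 x1 x2 a w s t)) :
    ∀ g ∈ gen [p, q, l, e1, e2, x1, x2, a, w, s, t], g * a = a * g → (g ∈ gen [p, q] ∨ g * a ∈ gen [p,
    q]) := by
  have := PM.holds MA6_ok MA6_subs he (p := (.all 0 40 (.imp (.eq [8,40] [40,8]) (.or (.ex 1 41 (.eq [40] [41])) (.ex 1 41 (.eq [8,40] [41])))))) (by decide +kernel)
  simp only [Fm.sem, wv_cons, wv_nil, one_mul, upd_apply, Nat.reduceEqDiff, ↓reduceIte, gMA6_1, gMA6_2, gMA6_3, gMA6_4, gMA6_5, gMA6_6, gMA6_7, gMA6_8, gMA6_9, gMA6_10, gMA6_11, gMA6_s0, gMA6_s1, gMA6_s2, gMA6_s3, gMA6_s4, gMA6_s5, exists_eq_right'] at this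
  exact this

theorem f_sw (he : Emb MA6.m (gMA6 p q l e1 e2 x1 x2 a w s t)) :
    ∀ g ∈ gen [p, q, l, e1, e2, x1, x2, a, w, s, t], (∃ u ∈ gen [e1, e2], g * e1 = u * g) → (∃ u ∈ gen
    [e1, e2], g * e2 = u * g) → (g ∈ gen [p, q] ∨ g * a ∈ gen [p, q] ∨ g * e1 = e2 * g ∨ g * e1 = e2
    * l * g) := by
  have := PM.holds MA6_ok MA6_subs he (p := (.all 0 40 (.imp (.ex 2 41 (.eq [4,40] [40,41])) (.imp (.ex 2 41 (.eq [5,40] [40,41])) (.or (.ex 1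
      41 (.eq [40] [41])) (.or (.ex 1 41 (.eq [8,40] [41])) (.or (.eq [4,40] [40,5]) (.eq [4,40]
      [40,3,5])))))))) (by decide +kernel)
  simp only [Fm.sem, wv_cons, wv_nil, one_mul, upd_apply, Nat.reduceEqDiff, ↓reduceIte, gMA6_1, gMA6_2, gMA6_3, gMA6_4, gMA6_5, gMA6_6, gMA6_7, gMA6_8, gMA6_9, gMA6_10, gMA6_11, gMA6_s0, gMA6_s1, gMA6_s2, gMA6_s3, gMA6_s4, gMA6_s5, exists_eq_right'] at this
  exact this

theorem f_cu (he : Emb MA6.m (gMA6 p q l e1 e2 x1 x2 a w s t)) :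
    ∀ g ∈ gen [p, q, l, e1, e2, x1, x2, a, w, s, t], g * e1 = e1 * g → g * e2 = e2 * g → (g ∈ gen [p, q]
    ∨ g = a ∨ g = a * l) := by
  have := PM.holds MA6_ok MA6_subs he (p := (.all 0 40 (.imp (.eq [4,40] [40,4]) (.imp (.eq [5,40] [40,5]) (.or (.ex 1 41 (.eq [40] [41])) (.or
      (.eq [40] [8]) (.eq [40] [3,8]))))))) (by decide +kernel)
  simp only [Fm.sem, wv_cons, wv_nil, one_mul, upd_apply, Nat.reduceEqDiff, ↓reduceIte, gMA6_1, gMA6_2, gMA6_3, gMA6_4, gMA6_5, gMA6_6, gMA6_7, gMA6_8, gMA6_9, gMA6_10, gMA6_11, gMA6_s0, gMA6_s1, gMA6_s2, gMA6_s3, gMA6_s4, gMA6_s5, exists_eq_right'] at this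
  exact this

/-- letters -/
def gMA6s (p q : G) : ℕ → G := lf [1, p, q, q⁻¹]

theorem gMA6s_0 : gMA6s p q 0 = 1 := rfl
theorem gMA6s_1 : gMA6s p q 1 = p := rfl
theorem gMA6s_2 : gMA6s p q 2 = q := rfl
theorem gMA6s_3 : gMA6s p q 3 = q⁻¹ := rfl

@[reducible] def MA6s : PM where
  w := 7
  n := 6
  cs := [1210151306112,
    486732776320,
    249972132494,
    967724503438]
  SW := [([[1],[2],[3]],
    [⟨2, [320, 1, 257, 66, 192], [[0, 1, 0, 1, 1, 0], [1, 0, 1]]⟩,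
     ⟨0, [256, 192, 64, 321], [[0, 0, 1, 1, 1], [0, 1, 1, 0]]⟩,
     ⟨1, [320, 257, 192], [[1, 1, 0]]⟩,
     ⟨3, [256, 320], []⟩])]

instance : NeZero MA6s.n := ⟨by decide⟩

theorem MA6s_ok : MA6s.ok = true := by decide +kernel

theorem MA6s_subs : MA6s.subsOK = true := by decide +kernel

theorem gMA6s_s0 : sub (gMA6s p q) (MA6s.W 0) = gen [p, q, q⁻¹] := by
  change gen (List.map (wv _) [[1],[2],[3]]) = _
  simp only [List.map_cons, List.map_nil, wv_cons, wv_nil, one_mul, gMA6s_1, gMA6s_2, gMA6s_3]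

/-- inverse letters -/
noncomputable def MA6s_io (l : ℕ) : ℕ := PK.nth 0 [0,1,3,2] l

/-- relators -/
def MA6s_R : List (List ℕ) := [[2, 2, 2, 2], [2, 1, 2, 1, 2, 1, 2, 1, 2, 1], [2, 2, 1, 2, 2, 1, 2, 2, 1, 2, 2, 1, 2, 2, 1]]

/-- relations -/
def MA6s_Rel (p q : G) : Prop :=
  (p * p = 1) ∧
  q * q * q * q = 1 ∧
  p * q * p * q * p * q * p * q * p * q = 1 ∧
  p * q * q * p * q * q * p * q * q * p * q * q * p * q * q = 1

theorem MA6s_satG (h : MA6s_Rel p q) : Sat (gMA6s p q) 4 MA6s_io MA6s_R := by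
  obtain ⟨i1, h⟩ := h
  refine ⟨rfl, fun l hl => ?_, ?_⟩
  · interval_cases l
    exacts [inv_one.symm, eq_inv_of_mul_eq_one_left i1, rfl, (inv_inv _).symm]
  · simp only [MA6s_R, List.forall_mem_cons, wv_cons, wv_nil, one_mul, List.not_mem_nil, IsEmpty.forall_iff,
      implies_true, and_true, gMA6s_1, gMA6s_2, gMA6s_3]
    exact h

noncomputable def MA6s_tc0_C : SeqCert := ⟨nat_lit 2, nat_lit 9, nat_lit 4, nat_lit 0x203030201010000, (NT.leaf (nat_lit 0) (nat_lit 0x2b02d038024000)), (NT.leaf (nat_lit 0) (nat_lit 0x2020202))⟩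
noncomputable def MA6s_tc0_U : List (List ℕ) := []
noncomputable def MA6s_tc0_HL : List ℕ := []
theorem MA6s_tc0_head : MA6s_tc0_C.head 4 MA6s_io MA6s_R MA6s_tc0_U MA6s_tc0_HL 4 2 0 = true := by decide +kernel
noncomputable def MA6s_tc0_s0 : List ℕ := [nat_lit 0xc020280c0001]
theorem MA6s_tc0_ok0 : MA6s_tc0_C.StepsOK 4 5 := (SeqCert.StepsOK.refl _ 4).step (L := MA6s_tc0_s0) (by decide +kernel)
theorem MA6s_tc0_ok : MA6s_tc0_C.StepsOK (4 + 0) 5 := MA6s_tc0_ok0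
noncomputable def MA6s_tc0_r0 : List ℕ := [nat_lit 0x24024, nat_lit 0x1806d, nat_lit 0x4e052, nat_lit 0x3a08b]
theorem MA6s_tc0_final : MA6s_tc0_C.final 4 5 (nat_lit 0xf) 4 [2,3] (MA6s_tc0_r0) = true := by decide +kernel
theorem MA6s_tc0 {G : Type*} [Group G] {g : ℕ → G} {H : Subgroup G} (hg : Sat g 4 MA6s_io MA6s_R)
    (hU : ∀ u ∈ MA6s_tc0_U, wv g u ∈ H) (hL : ∀ l ∈ MA6s_tc0_HL, g l ∈ H) :
    IdxLe H (Subgroup.closure {x | ∃ l ∈ ([2,3] : List ℕ), g l = x}) 4 :=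
  SeqCert.idxLe_of_final hg hU hL MA6s_tc0_head MA6s_tc0_ok MA6s_tc0_final

theorem MA6s_card0 {G : Type*} [Group G] {g : ℕ → G} (hg : Sat g 4 MA6s_io MA6s_R) :
    Finite (closure {x | ∃ l ∈ [2, 3], g l = x}) ∧
      Nat.card (closure {x | ∃ l ∈ [2, 3], g l = x}) ≤ 4 :=
  (MA6s_tc0 hg (H := ⊥) (by simp [MA6s_tc0_U]) (by simp [MA6s_tc0_HL])).card_le card_bot_le

noncomputable def MA6s_tc1_C : SeqCert := ⟨nat_lit 7, nat_lit 9, nat_lit 4, nat_lit 0x203030201010000, (NT.leaf (nat_lit 0) (nat_lit 0xb76e03bb8c05e3c03af74034630096f00325d00b2c4034d70348740252300bd2005fb80266a80191d007664027b80084a8015a4008efc0624003d7a80716a0074cc02a4000dba80b0df00930c0284400d97c02c5300cd84072eb03d7b40b66d01bda40ade703bf980f1e502c7900eb6201b9800a960029d70066db01a5680e5d902a1600a355038f500a25302732009bc503690c099c2037f000d8bd0262f0095ba0154e40d3b60150d4093350244c00972f0240b408e2802328c04c22032a7c08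a1e012c58087960216440840c010e2c081850200000776701db880f66102d7840f55f03d3740b45d02cf680735803cb5c0b25701c7580f15501c34c0b05101bf440af4f01bb380ae4d03b7300ad4c01b3280ac4901af200ab4601ab1406a4402a70c0e94102a30406840019efc0e73e029af80663d0196f00e53b0192e80a438018ee006337028ad80e2340186cc0a1320182c00e02f027eb805f2d037ab009e2c0176ac09d2a0372a409c29036e9c05b26026a9405a250366900992401628c09821015e8405720025a7c0561e0356740951d0152700941b014e6c0d31a024a68052190246600d11702425c0d015013e5008f13013a4c0ce1202364804d1103324008c10012e3c08b0e012a380ca0d0226340490c0222280480a031e2408709011a2008607031618085060112140c404020e1004303020a08042020306040810101020000000)), (NT.node (nat_lit 6) (NT.node (nat_lit 3) (NT.node (nat_lit 1) (NT.leaf (nat_lit 0) (nat_lit 0x2020202)) (NT.node (nat_lit 2) (NT.leaf (nat_lit 5) (nat_lit 0x1030103010301030103)) (NT.leaf (nat_lit 32776) (nat_lit 0x10202010202010202010202010202))))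 (NT.node (nat_lit 4) (NT.leaf (nat_lit 16389) (nat_lit 0x3010301030103010301)) (NT.node (nat_lit 5) (NT.leaf (nat_lit 4) (nat_lit 0x2010201020102010201)) (NT.leaf (nat_lit 16392) (nat_lit 0x20102020102020102020102020102))))) (NT.node (nat_lit 9) (NT.node (nat_lit 7) (NT.leaf (nat_lit 1) (nat_lit 0x3030303)) (NT.node (nat_lit 8) (NT.leaf (nat_lit 16388) (nat_lit 0x1020102010201020102)) (NT.leaf (nat_lit 8) (nat_lit 0x20201020201020201020201020201)))) (NT.node (nat_lit 11) (NT.node (nat_lit 10) (NT.leaf (nat_lit 16393) (nat_lit 0x30301030301030301030301030301)) (NT.leaf (nat_lit 6) (nat_lit 0x101))) (NT.node (nat_lit 12) (NT.leaf (nat_lit 10) (nat_lit 0x203)) (NT.leaf (nat_lit 14) (nat_lit 0x302))))))⟩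
noncomputable def MA6s_tc1_U : List (List ℕ) := []
noncomputable def MA6s_tc1_HL : List ℕ := [2,3]
theorem MA6s_tc1_head : MA6s_tc1_C.head 4 MA6s_io MA6s_R MA6s_tc1_U MA6s_tc1_HL 111 7 1 = true := by decide +kernel
noncomputable def MA6s_tc1_s0 : List ℕ := [nat_lit 0x3719d1f9249d7120983741204b8b40040cb7a58040ab6b20040c955b1a2030641ed71d0182da7686480c1862b2acc060a5758e640305574c802063ceb6950182d21595e80c19594f0081557868081657aa194060c24d54ee030523ea49f01828eb4a8600c1667a5c14060c855262e0305d2550020551e6e020651db4020521e86920182943405480c14d49fcd0060b9fb60040b53cf5600305c527b1b018325d3a6c80c16c39db30060a6bce594ae89c0cea9358b3414019b36988aa88a355ac79602402da62465186e801b0984b34c394ec36b83812da94ab11910451b1f86a34a2628c36c83810d25d270f8f72e9fd3ebd048059cb45b80c00cc8da81005e30a0d46bf0480d94c99580c0cc857240e0527a1409e6f882ad8b29638380ac48cab40606602890460210b9d02c15905ec7d4ec881c0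2602894a03002e1349d018016c983d161da3f2d9f5360900ad1310931119e0fa41a94120759250ec561d0f4b2794b82406b0491d0a83a130a47eef20975f081508380aaa451b1f8ff2813cde8d048115088341adfef5299c51e0901a9a1e890180120703980c008a809bc06004319890321008c6a4b3482406843219c0600403e4fe03031e8f30701818f0581e09834e40c389cc22108cde46307014e8542b80c0072290e048e50d89c765504804d84c1a39dc619128dc9e09019a894341105018e00502422e4128e5e80e011a8944d01800c0422280c005e210b9d0ea160ac825d04810b4ef2080c00501b0e40600230c06603001105c1e093841a15108c412011f0a034100402c261d15824063c130a4060016070240a02009bcde0181dc0130fba01c02160703e0300088281701800300e0880c00160601804df01814120f0480414040380c004d]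
theorem MA6s_tc1_ok0 : MA6s_tc1_C.StepsOK 112 189 := (SeqCert.StepsOK.refl _ 112).step (L := MA6s_tc1_s0) (by decide +kernel)
theorem MA6s_tc1_ok : MA6s_tc1_C.StepsOK (111 + 1) 189 := MA6s_tc1_ok0
noncomputable def MA6s_tc1_r0 : List ℕ := [nat_lit 0x37c03780008080, nat_lit 0x181810100c001, nat_lit 0x1408282820202, nat_lit 0x384281c0830303, nat_lit 0x4040383824104, nat_lit 0x2c13801848485, nat_lit 0x5858505034186, nat_lit 0x3c2060638c587, nat_lit 0x39460442068688, nat_lit 0x787870704c289, nat_lit 0x543088888080a, nat_lit 0x39c885c338838b, nat_lit 0x643b90409090c, nat_lit 0xa0a098986c40d, nat_lit 0x7448b0b0a8a8e, nat_lit 0x3a4b07c48b8b8f, nat_lit 0xc8c8c0c084510, nat_lit 0x8c539858d0d11, nat_lit 0xe0e0d8d894612, nat_lit 0x9c68f0f0e8e93, nat_lit 0x3b4f0a468f8f94, nat_lit 0x10103bcf8ac715, nat_lit 0xb473a07ba8b16, nat_lit 0x111110908bc797, nat_lit 0xc481191bc5118, nat_lit 0x3cd18cc8121219,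 nat_lit 0x131312928d489a, nat_lit 0xdc9141413939b, nat_lit 0x3d540e4914949c, nat_lit 0x599215150ec99d, nat_lit 0xf49bb0a16161e, nat_lit 0x3b8a96968fca1f, nat_lit 0x3dd6904a971720, nat_lit 0x10cb98181797a1, nat_lit 0x3ed8114bbc0c22, nat_lit 0x11cc3c8c9898a3, nat_lit 0x1999d9ce924ca4, nat_lit 0x12cd1a9a9a1a25, nat_lit 0x3f5a934d1b1b26, nat_lit 0x1b9bc05b13cda7, nat_lit 0x144dbd0e3fdaa8, nat_lit 0x1c9c9c1c14ce29, nat_lit 0x154ed799c0dcaa, nat_lit 0x1e9e9e1e164f2c, nat_lit 0x16cfbd901f1f2d, nat_lit 0x3e579f9f97502e, nat_lit 0x20203e1717d0af, nat_lit 0x1850be9120a0b0, nat_lit 0x41de425e98d1b1, nat_lit 0x57d519d221a1b3, nat_lit 0x222243e19a52b4, nat_lit 0x1ad2bf133f9435, nat_lit 0x4013a2a29b5336, nat_lit 0x44629bd3a32337, nat_lit 0x1c54a424581fb8, nat_lit 0x44e41cd4c09539, nat_lit 0x1e564198dd1e3c, nat_lit 0x42189ed626263d, nat_lit 0x272726a69f56be, nat_lit 0x1fd742e0585c3f, nat_lit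 0x429fa057d42240, nat_lit 0x292928a8a0d841, nat_lit 0x439a29a9a1d9c3, nat_lit 0x4569a25a546044, nat_lit 0x22db441baaaac5, nat_lit 0x466aab2b235bc6, nat_lit 0x245c449cababc8, nat_lit 0x2dadad2d265ecc, nat_lit 0x26df2e2e486dcd, nat_lit 0x48ee275f2eaece, nat_lit 0x28e0b0302fafd1, nat_lit 0x49702960c7ed52, nat_lit 0x29e1c52230b0d3, nat_lit 0x313146232ae2d5, nat_lit 0x2b634a7131b1d6, nat_lit 0x32b2dceeabe457, nat_lit 0x2d6633b3c7a95a, nat_lit 0x4c73ade64826db, nat_lit 0x2e66c8a749f05c, nat_lit 0x5cabddf1aee75d, nat_lit 0x35355130afe8df, nat_lit 0x3068c92949ae60, nat_lit 0x516fb5b5b0e9e1, nat_lit 0x4a2b316ad37562, nat_lit 0x5daecb72b1eb63, nat_lit 0x4b31b2ebce75e5, nat_lit 0x33ed4c2db73767, nat_lit 0x53b5b56fd3316a, nat_lit 0x35f0d3f54e32eb, nat_lit 0x5e775e373773ee]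
theorem MA6s_tc1_final : MA6s_tc1_C.final 4 189 (nat_lit 0x4cafbcee717bf3fbf7ffffffffff) 90 [1,2,3] (MA6s_tc1_r0) = true := by decide +kernel
theorem MA6s_tc1 {G : Type*} [Group G] {g : ℕ → G} {H : Subgroup G} (hg : Sat g 4 MA6s_io MA6s_R)
    (hU : ∀ u ∈ MA6s_tc1_U, wv g u ∈ H) (hL : ∀ l ∈ MA6s_tc1_HL, g l ∈ H) :
    IdxLe H (Subgroup.closure {x | ∃ l ∈ ([1,2,3] : List ℕ), g l = x}) 90 :=
  SeqCert.idxLe_of_final hg hU hL MA6s_tc1_head MA6s_tc1_ok MA6s_tc1_final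

theorem MA6s_card1 {G : Type*} [Group G] {g : ℕ → G} (hg : Sat g 4 MA6s_io MA6s_R) :
    Finite (closure {x | ∃ l ∈ [1, 2, 3], g l = x}) ∧
      Nat.card (closure {x | ∃ l ∈ [1, 2, 3], g l = x}) ≤ 360 :=
  (MA6s_tc1 hg (by simp [MA6s_tc1_U]) fun _ hl => letter_mem g hl).card_le (MA6s_card0 hg)

theorem MA6s_sat : MA6s.satB 4 MA6s_io MA6s_R = true := by decide +kernel

theorem MA6s_hom (h : MA6s_Rel p q) :
    ∃ (hm : ∀ l, MA6s.m l ∈ sub MA6s.m (MA6s.W 0)) (φ : sub MA6s.m (MA6s.W 0) →* G),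
      φ.range = sub (gMA6s p q) (MA6s.W 0) ∧ ∀ l, φ ⟨_, hm l⟩ = gMA6s p q l :=
  PM.exists_hom MA6s_ok MA6s_subs (PM.sat MA6s_ok MA6s_sat) (MA6s_satG h) rfl MA6s_card1
    (by decide +kernel)

end Cfsg.Lib.QET.KA6
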