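import Cfsg.Agent.KInv.RuI

/-! Data for the centraliser of a non-central involution of the Rudvalis group. -/

set_option autoImplicit false
set_option maxRecDepth 100000

namespace Cfsg.Lib.QET.RuT

open Cfsg.Lib.Spor Cfsg.Lib.Spor.Bulk Cfsg.Lib.Spor.SzK Cfsg.Lib.Spor.Ru Cfsg.Lib.Known
open Cfsg.Lib.Known.PC (frc frc_eq nth)
open Cfsg.Lib.KInv.RuK (tb bs lT)

/-- The values of `f` increase along the list. -/
noncomputable def incB {α : Type} (f : α → ℕ) (L : List α) : ℕ → Bool :=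
  List.rec (fun _ => true) (fun r _ ih p => frc (f r) fun x => band (Nat.blt p x) (ih x)) L

theorem incB_eq_1' : type_of% @incB.eq_1 := @incB.eq_1

theorem incB_spec {α : Type} {f : α → ℕ} {L : List α} : ∀ {p : ℕ}, incB f L p = true →
    (∀ r ∈ L, p < f r) ∧ L.Pairwise fun a b => f a < f b := by
  induction L with
  | nil => simp
  | cons r L ih =>
    intro p h
    obtain ⟨h1, h2⟩ := band_iff'.1 ((frc_eq _ _).symm.trans h)
    have h1 := Nat.blt_eq.mp h1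
    exact ⟨List.forall_mem_cons.2 ⟨h1, fun a ha => h1.trans ((ih h2).1 a ha)⟩,
      List.pairwise_cons.2 (ih h2)⟩

/-- The second involution of the four-group. -/
def uW : List ℕ := [12, 11, 8, 7, 6, 5, 4, 0]

/-- The Sylow 2-subgroup of the component. -/
def l0 : List ℕ := [19, 20, 21, 22, 23, 13]

/-- The generators of the component. -/
def lM : List ℕ := [16, 17, 19, 20, 21, 22, 23, 13]

/-- Conjugating words. -/
def cjW : List (List ℕ) := [[], [1], [1, 9], [9], [1, 10], [10], [1, 8], [8], [15, 15, 14],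
  [14, 15, 20, 14], [9, 15, 15, 14], [1, 15, 15, 14], [5, 14, 0, 15], [14, 4, 21, 15], [5, 14, 21, 15],
  [10, 15, 15, 14], [0, 16, 6], [0, 16, 3, 5], [0, 10, 16, 6], [0, 1, 16, 5], [0, 1, 16, 6], [15, 0, 14],
  [0, 15, 21, 14], [0, 16, 5]]

/-- The generators as commutators. -/
def cmW : List (ℕ × List ℕ × List ℕ) := [(16, [17], [16, 16, 16]), (17, [16, 16, 23], [19, 22, 17, 21, 22]),
  (19, [16], [21, 13]), (20, [19, 21], [16]), (21, [16], [20, 19, 21]), (22, [19], [20, 21]),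
  (23, [19], [20]), (13, [16], [22, 23])]

/-- Conjugates under the two point stabiliser. -/
def clW : List (List ℕ × ℕ) := [
  ([15, 15, 3], 987), ([15, 2, 4, 10], 787), ([2, 15, 8], 730), ([15, 2, 6], 1056), ([15, 4, 8], 817), ([5, 10],
  874), ([15, 2, 3, 4], 1192), ([15, 2, 10], 1180), ([15, 2, 4, 7], 1555), ([7, 10], 1536), ([7, 5], 1143),
  ([15, 7, 15], 1365), ([15, 2, 8, 6], 982), ([15, 4, 10], 1201), ([15, 5, 8], 848), ([3, 10], 997), ([9, 15],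
  787), ([2, 7, 5], 1392), ([15, 2, 15, 9], 1498), ([9], 1474), ([15, 2, 5, 15], 1716), ([3, 8, 7], 1211), ([15,
  2, 15, 12], 1034), ([15, 2, 6, 4], 897), ([15, 11, 15], 1543), ([5, 3, 7], 955), ([15, 10], 1454), ([15, 15,
  2, 9], 1495), ([15, 2, 15, 5], 1661), ([7, 15, 2], 1176), ([15, 3, 11], 1655), ([15, 3, 5], 1576), ([15, 7,
  10], 1706), ([5, 15], 1013), ([15, 5, 2], 1278), ([15, 15, 3, 8], 1500), ([2, 7, 10], 1233), ([15, 2, 7, 15],
  834), ([15, 3, 5, 8], 1052), ([15, 2, 4, 3], 1720), ([15, 2, 4], 1751), ([15, 2], 764), ([2, 4, 15], 1427),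
  ([15, 2, 4, 6], 774), ([3], 733), ([15, 2, 4, 15], 1541), ([15, 15, 10, 3], 1302), ([2, 6, 10], 1649), ([15,
  7, 3], 1425), ([15, 2, 5, 7], 951), ([8, 15, 2], 1023), ([15, 3, 4], 1730), ([2, 5, 7], 841), ([15, 4, 5],
  1005), ([3, 7, 4], 1114), ([15, 2, 3], 858), ([15, 15, 2, 6], 1665), ([15, 15, 2], 1175), ([5, 7], 1035),
  ([15, 2, 15, 4], 972), ([15, 7, 2], 1043), ([2, 9], 1483), ([15, 15, 5, 6], 792), ([15, 15, 5, 4], 1331), ([2,
  15, 6], 1323), ([5, 15, 11], 1059), ([15, 2, 8, 3], 1610), ([15, 15, 4, 6], 887), ([15, 6, 10], 1075), ([15,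
  2, 5, 4], 1328), ([5], 760), ([15, 5, 3, 9], 733), ([15, 6, 8], 1510), ([2, 6, 15], 848), ([15, 15, 2, 5],
  1263), ([5, 7, 8], 864), ([], 730), ([3, 5, 7], 939), ([15, 15, 15, 15], 1355), ([15, 2, 15], 830), ([15, 3,
  5, 6], 817), ([15, 11], 1218), ([15, 3, 5, 2], 1081), ([10], 931), ([15, 5, 2, 3], 1579), ([15, 3, 4, 5],
  1557), ([2, 8], 1328), ([15], 748), ([2, 15, 11], 1169), ([5, 7, 2], 1201), ([15, 5, 4], 929), ([15, 2, 3, 9],
  778), ([15, 7], 878), ([15, 15, 15, 4], 1360), ([15, 3], 796), ([7], 750), ([15, 4, 15], 1142), ([15, 11, 2],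
  943), ([15, 2, 9], 1651), ([15, 2, 4, 9], 1728), ([15, 3, 5, 12], 1075), ([15, 5, 3], 1475), ([8, 7], 880),
  ([2, 15, 4], 1505), ([15, 15, 15, 9], 1040), ([15, 2, 6, 3], 1646), ([7, 15], 1006), ([2, 6], 781), ([2, 7,
  4], 1408), ([15, 2, 8], 1447), ([7, 4], 1497), ([3, 9], 1444), ([15, 15, 2, 11], 1340), ([15, 3, 8, 4], 1096),
  ([3, 7, 5], 1368), ([15, 2, 15, 3], 1193), ([15, 15, 5], 1597), ([2, 15, 10], 1452), ([15, 8, 11], 1666),
  ([15, 8], 855), ([15, 15, 15, 8], 899), ([3, 7, 10], 1272), ([15, 3, 9], 1015), ([15, 15, 8], 740), ([2, 5,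
  10], 742), ([15, 6, 15], 1378), ([15, 2, 7], 1238), ([2, 10], 1095), ([15, 4], 1246), ([15, 4, 7, 15], 889),
  ([15, 2, 3, 8], 1616), ([15, 6, 11], 1430), ([2, 7, 6], 1228), ([2, 6, 7], 1246), ([2], 731), ([15, 15, 15,
  5], 1641), ([15, 2, 15, 6], 1288), ([15, 2, 10, 3], 954), ([2, 15, 3], 861), ([15, 15, 4, 10], 915), ([2, 5,
  9], 1449), ([2, 9, 15], 844), ([15, 8, 3], 1379), ([15, 2, 6, 9], 1185), ([15, 2, 15, 8], 748), ([15, 8, 7],
  1337), ([15, 15, 8, 15], 1248), ([7, 15, 15], 1622), ([8, 5], 1012), ([2, 3, 5], 958), ([15, 3, 7], 1050),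
  ([15, 2, 8, 7], 1740), ([15, 15, 15, 2], 1711), ([8], 1746), ([2, 7], 771), ([2, 4], 1149), ([15, 4, 15, 2],
  1035), ([15, 15, 4, 3], 1375), ([15, 15, 9], 1346), ([7, 15, 3], 1419), ([15, 5], 1141), ([15, 15, 10, 15],
  875), ([15, 15, 15, 12], 1348), ([15, 15, 2, 4], 1410), ([15, 8, 2], 1441), ([15, 15, 10], 1530), ([15, 15,
  15, 3], 1342), ([15, 2, 5, 2], 1423), ([5, 8], 1566), ([15, 15, 8, 6], 1534), ([5, 8, 7], 1003), ([15, 15, 2,
  12], 1088), ([2, 15], 767), ([15, 2, 15, 7], 1340), ([15, 2, 4, 2], 773), ([5, 3], 808), ([15, 2, 4, 5],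
  1514), ([15, 6, 3], 1243), ([15, 15, 6], 1419), ([15, 6], 1085), ([15, 5, 10], 835), ([15, 3, 7, 8], 1590),
  ([15, 3, 8, 2], 1539), ([15, 4, 11], 954), ([15, 15, 3, 7], 799), ([15, 4, 15, 4], 1707), ([15, 4, 7], 1303),
  ([15, 15, 3, 12], 843), ([3, 7], 813), ([2, 8, 15], 1241), ([15, 7, 5], 1241), ([15, 3, 5, 9], 1512), ([15,
  15], 850), ([15, 15, 4], 1700), ([15, 15, 4, 2], 1609), ([15, 15, 5, 10], 900), ([8, 15], 1027), ([15, 2, 8,
  2], 1297), ([2, 15, 2], 799), ([15, 15, 3, 4], 1612), ([15, 5, 15, 10], 1644), ([15, 5, 11], 981), ([15, 15,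
  3, 5], 1735), ([15, 15, 2, 8], 1354), ([3, 5], 852), ([15, 2, 3, 7], 1413), ([15, 15, 15, 6], 1002), ([15, 15,
  6, 4], 1326), ([3, 8, 5], 1292), ([15, 2, 5], 952), ([2, 3], 737), ([2, 7, 9], 1244), ([8, 5, 15], 1271), ([2,
  3, 7], 890), ([15, 5, 3, 6], 934), ([15, 3, 8], 1160), ([2, 5, 4], 1269), ([2, 3, 10], 1196), ([9, 2], 853),
  ([3, 5, 3], 1011), ([2, 5], 791), ([2, 4, 7], 828), ([15, 15, 3, 9], 1604), ([5, 15, 2], 1177), ([2, 3, 15],
  877), ([5, 7, 10], 1075), ([15, 15, 3, 15], 960), ([15, 15, 5, 3], 1519), ([3, 8], 1531), ([8, 15, 15], 1201),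
  ([15, 15, 3, 6], 1256), ([15, 3, 7, 5], 1307), ([2, 3, 6], 924), ([2, 5, 15], 1222), ([5, 15, 15], 1325),
  ([15, 15, 6, 9], 1372), ([15, 5, 2, 9], 1371), ([15, 3, 4, 9], 944), ([15, 3, 6], 1492), ([15, 2, 7, 9], 1028)]

theorem uW_eq_1' : type_of% @uW.eq_1 := @uW.eq_1
theorem l0_eq_1' : type_of% @l0.eq_1 := @l0.eq_1
theorem lM_eq_1' : type_of% @lM.eq_1 := @lM.eq_1
theorem cjW_eq_1' : type_of% @cjW.eq_1 := @cjW.eq_1
theorem cmW_eq_1' : type_of% @cmW.eq_1 := @cmW.eq_1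
theorem clW_eq_1' : type_of% @clW.eq_1 := @clW.eq_1

theorem c_pc : pcB tb bs 2 l0 [(16, [9, 14, 4, 8, 16]), (2, [11, 2, 4, 8]), (2, [1, 2, 4]), (0, [1, 2]),
    (0, [1]), (0, [])] = true := by decide +kernel

theorem c_l0 : allNF 2 l0 (fun W i => band (orB (Nat.beq i 0) (notB (eqB tb bs [W] [])))
    (allL (fun r : ℕ × List ℕ => band (notB (eqB tb bs [W] [r.2])) (orB (notB (eqB tb bs [W, W] []))
      (eqB tb bs [[18], getN [] cjW (Nat.add (Nat.div i 8) r.1)]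
        [getN [] cjW (Nat.add (Nat.div i 8) r.1), r.2, W])))
      [(0, [18]), (8, uW), (16, 18 :: uW)])) = true := by decide +kernel

theorem c_u : comB tb bs [[16], [17], [19], [20], [21], [22], [23], [13], [18]] uW = true ∧
    eqB tb bs [uW, uW] [] = true ∧ Nat.beq (tb 18 (Rk.cd 4059)) (Rk.cd 1754) = true ∧
    allL (fun r : ℕ × List ℕ × List ℕ => eqB tb bs [r.2.1, r.2.2, [r.1]] [r.2.2, r.2.1]) cmW = true ∧
    allL (fun r : ℕ × List ℕ => band (eqB tb bs (List.replicate r.1 r.2) []) (notB (eqB tb bs [r.2] [])))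
      [(5, [17, 20]), (7, [16]), (13, [16, 17, 20])] = true := by decide +kernel

theorem c_cl : allL (fun r : List ℕ × ℕ => band (allL (fun l => lmem l (15 :: lT.drop 2)) r.1)
    (band (Nat.blt r.2 4060) (Nat.beq (ap tb r.1 (Rk.cd r.2)) (Rk.cd 730)))) clW = true ∧
    incB (fun r : List ℕ × ℕ => ap tb (18 :: r.1) (Rk.cd r.2)) clW 0 = true ∧
    Nat.beq clW.length 240 = true := by decide +kernel

end Cfsg.Lib.QET.RuT
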