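import Cfsg.Agent.SporChar.WForm
import Cfsg.Agent.Known.MathieuCover

/-! A model of the double cover of `M₁₂` on 24 points. -/

set_option autoImplicit false
set_option maxRecDepth 100000

namespace Cfsg.Lib.QET.Kcm

open Subgroup Cfsg.Lib.Spor Cfsg.Lib.Spor.Bulk Cfsg.Lib.Spor.PK Cfsg.Lib.Spor.WF Cfsg.Lib.Known

/-- the model -/
@[reducible] def MM : PM := ⟨9, 24, [0x67b197ab455a893290439f8ea6c31968a2481f8d85a240d8481200,
    0x4c92156a2678917ac60d9f8126c16ad07e3631a40a25a43848ea00,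
    0x55a41325a5ead19e360d9f8126c1f8905ac628920c6a243848ea00,
    0x2d14544995a33c483f0d848ea6c632f46c2d2418d20ab439f81200,
    0x5118cb4ab122f5682d0d848ea6c1b33d8c3f481449099439f81200,
    0x1faf58c8731a6544905a1f8ea6c55944b41b678b46c24240481200,
    0x67944b47e16a887e1b122d0ea6c31af58c124c8d95687481201200,
    0x3a86c487e55a8932512d2d19e6c04a1d20121f8d85abd63120c600,
    0x67a417a87361d532c65a1f944ab31890a21b000245a5a240486c3f,
    0x31968a2481f8d85a240d848120067b197ab455a893290439f8ea6c,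
    0x4c890fc1b55a899e5a242f4ea6c16a4024871f8d8c6c65a1441200,
    0x5a288a2ab169690e6c3a9f848cf240d97a3f4cb183600048492063,
    0x21ca2091216944481f9f85acf3606d7a75483186cb4558493263,
    0x3f2650e5a510fd7a6312120126c090b436c61b2aca2cf482d0ea00,
    0x4caf58cb41b0fd9e1243890ea6c16944b448512acc67e0da401200],
  [([[1], [2], [3], [4], [5], [6], [7], [8], [9], [10], [11], [12], [13], [14]],
    [⟨1, [832, 710, 391, 202, 1291, 1478, 1159, 970, 523, 448, 321, 1411, 1220, 10, 1036, 578, 650, 1091, 901, 267,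
    140, 778, 1346], [[0, 11, 12, 12, 6, 0], [6, 4, 12, 7]]⟩,
     ⟨2, [320, 577, 0, 1216, 513, 256, 449, 192, 1409, 1280, 705, 960, 641, 1089, 1344, 897, 1473, 1153, 768, 385,
    1025], [[1, 1, 1, 0, 1, 1, 0], [1, 0, 1, 0, 0, 1, 1]]⟩,
     ⟨3, [1024, 577, 768, 1409, 257, 321, 1152, 1281, 0, 641, 1472, 705, 961, 1089, 384, 513, 1216, 449, 1345],
    [[0, 1, 1, 1, 0, 1, 1, 1], [0, 0, 1, 0, 0, 1, 1, 0], [1, 1, 1, 0, 1, 0]]⟩,
     ⟨0, [1472, 1153, 1218, 1089, 642, 256, 1346, 1280], [[0, 2, 1]]⟩,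
     ⟨4, [1280], []⟩]),
   ([[8], [13], [14]],
    [⟨0, [448, 1153, 832, 1217, 65, 768, 385], [[0, 1, 2, 0], [2]]⟩,
     ⟨1, [832], [[0, 1, 0], [1]]⟩,
     ⟨2, [1025, 640, 577], [[0]]⟩,
     ⟨3, [704], []⟩])]⟩

instance neZero_MM : NeZero MM.n := ⟨Nat.succ_ne_zero 23⟩

theorem ok : MM.ok = true := by decide +kernel

theorem subs : MM.subsOK = true := by decide +kernel

/-- the letters -/
noncomputable abbrev g : ℕ → Equiv.Perm (Fin 24) := MM.m

/-- the group -/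
noncomputable abbrev GG : Subgroup (Equiv.Perm (Fin 24)) :=
  sub g [[1], [2], [3], [4], [5], [6], [7], [8], [9], [10], [11], [12], [13], [14]]

/-- the Sylow subgroup -/
noncomputable abbrev TT : Subgroup (Equiv.Perm (Fin 24)) := sub g [[8], [13], [14]]

theorem cardG : Nat.card GG = 190080 := PM.card_sub ok subs 0

theorem cardT : Nat.card TT = 2 ^ 7 := PM.card_sub ok subs 1

theorem sat : Sat g 9 m12p_i [] := PM.sat ok (by decide +kernel)

theorem rel : ∀ r ∈ m12p_R, wv g r = 1 ∨ wv g r = g 9 := fun r hr => by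
  simpa [Fm.sem] using (PM.dec_iff ok subs _).1 ((PK.allL_iff _ _).1 (by decide +kernel :
    PK.allL m12p_R (fun r => MM.dec (.or (.eq r []) (.eq r [9]))) = true) r hr)

theorem cen : ∀ l ∈ List.range 15, g l * g 9 = g 9 * g l := fun l hl => by
  simpa [Fm.sem] using (PM.dec_iff ok subs _).1 ((PK.allL_iff _ _).1 (by decide +kernel :
    PK.allL (List.range 15) (fun l => MM.dec (.eq [9, l] [l, 9])) = true) l hl)

theorem mem (l : ℕ) : g l ∈ GG :=
  lf_mem_sub (k := 15) (Ls := [1, 2, 3, 4, 5, 6, 7, 8, 9, 10, 11, 12, 13, 14]) _ (by simp) sat.zero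
    (by decide) l

theorem fct : (g 9 * g 9 = 1 ∧ g 9 ≠ 1 ∧ g 1 ≠ 1 ∧ g 1 ≠ g 9 ∧ ∃ x ∈ TT, x * x = g 9) ∧
    ∀ x ∈ TT, x * g 10 = g 10 * x ∧ (x * x = 1 → x = 1 ∨ x = g 9 ∨ ∃ t ∈ TT, ∃ l ∈ [0, 5, 11, 12],
      g l * t * x = g 10 * (g l * t) ∨ g l * t * x = g 10 * g 9 * (g l * t)) ∧
      (x * x = g 9 → ∃ s ∈ TT, x * s * x = s) := by
  have := (PM.dec_iff ok subs (.and (.and (.eq [9, 9] []) (.and (.not (.eq [9] []))
    (.and (.not (.eq [1] [])) (.and (.not (.eq [1] [9])) (.ex 1 20 (.eq [20, 20] [9]))))))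
    (.all 1 20 (.and (.eq [10, 20] [20, 10]) (.and (.imp (.eq [20, 20] []) (.or (.eq [20] [])
      (.or (.eq [20] [9]) (.ex 1 21 (.or (.or (.eq [20, 21, 0] [21, 0, 10]) (.eq [20, 21, 0] [21, 0, 9, 10]))
        (.or (.or (.eq [20, 21, 5] [21, 5, 10]) (.eq [20, 21, 5] [21, 5, 9, 10]))
        (.or (.or (.eq [20, 21, 11] [21, 11, 10]) (.eq [20, 21, 11] [21, 11, 9, 10]))
        (.or (.eq [20, 21, 12] [21, 12, 10]) (.eq [20, 21, 12] [21, 12, 9, 10]))
        )))))))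
      (.imp (.eq [20, 20] [9]) (.ex 1 21 (.eq [20, 21, 20] [21])))))))).1 (by decide +kernel)
  simpa only [Fm.sem, upd_apply, PM.W, List.getD_cons_zero, List.getD_cons_succ, wv_cons, wv_nil,
    one_mul, Nat.reduceEqDiff, if_true, if_false, mul_assoc, ne_eq, List.mem_cons,
    List.not_mem_nil, or_false, exists_eq_or_imp, exists_eq_left] using this

end Cfsg.Lib.QET.Kcm
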